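import Cfsg.Agent.H713.Two.Sing_m3
import Cfsg.Agent.SmallSimple.SelfCentPrime
import Cfsg.Agent.H710.R4.Sph_m3
import Cfsg.Agent.Blocks.Basic
import Cfsg.Prelude.Def_DegreeGraph
import Cfsg.Agent.H707.RowTh_m3
import Cfsg.Agent.H419.TwoTrans_m3
import Cfsg.Agent.S2083
import Cfsg.Agent.H723.Spor.Th
import Cfsg.Agent.FastGrp
import Cfsg.Agent.Prune
set_option linter.all false
prune_inst 0x7f00000000000000000000000000000000000000000000000000000000000000000000000000000000000000000000000000000000000000000000000000000000000000000000000000000000000000003fffffffffffffffffffffffffffbeffbdffffffff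
open scoped Cfsg.Agent.FastGrp

-- part: H859/Two/Tools
section
/-!
# Singular classes for a prime dividing the group order once (S4897)

* `exists_nonConj` : two non-conjugate nontrivial elements of a group of order at least 3.
* `three_classes`, `two_classes` : non-conjugate `p`-singular elements when `p` divides the group order once.
* `row2_of_inner` : all automorphisms are inner.
-/

set_option autoImplicit false

namespace Cfsg.Agent.H859.Two

open Cfsg Cfsg.Agent.H504.TwoZ Cfsg.Agent.H504.Zeros Cfsg.Agent.H713 Cfsg.Agent.H713.Count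

universe u

section inner

/-- a simple group whose automorphisms are inner -/
theorem row2_of_inner {S : Type u} [Group S]
    (h : ∀ φ : MulAut S, ∃ s : S, φ = MulAut.conj s) : Row2 S := by
  rintro G _ _ N _ ⟨e⟩ hC - hN
  exfalso
  apply hN
  rw [eq_top_iff]
  intro g _
  obtain ⟨s, hs⟩ := h (autS N e g)
  have h1 : ((e.symm s : N) : G)⁻¹ * g ∈ Subgroup.centralizer (N : Set G) := by
    rw [Subgroup.mem_centralizer_iff]
    intro n hn
    have h2 : autS N e g (e ⟨n, hn⟩) = s * e ⟨n, hn⟩ * s⁻¹ := by rw [hs]; rfl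
    rw [autS_apply, MulEquiv.symm_apply_apply] at h2
    have h3 : MulAut.conjNormal g (⟨n, hn⟩ : N) = e.symm s * ⟨n, hn⟩ * (e.symm s)⁻¹ := by
      apply e.injective
      rw [h2, map_mul, map_mul, map_inv, MulEquiv.apply_symm_apply]
    have h4 : g * n * g⁻¹ = ((e.symm s : N) : G) * n * ((e.symm s : N) : G)⁻¹ := by
      have := congrArg (Subtype.val : N → G) h3
      rw [MulAut.conjNormal_apply] at this
      exact this
    calc n * (((e.symm s : N) : G)⁻¹ * g) =
        ((e.symm s : N) : G)⁻¹ * (((e.symm s : N) : G) * n * ((e.symm s : N) : G)⁻¹) * g := by group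
      _ = ((e.symm s : N) : G)⁻¹ * (g * n * g⁻¹) * g := by rw [h4]
      _ = _ := by group
  rw [hC, Subgroup.mem_bot, inv_mul_eq_one] at h1
  rw [← h1]
  exact (e.symm s).2

end inner

/-- two non-conjugate nontrivial elements -/
theorem exists_nonConj {K : Type*} [Group K] [Finite K] (h : 2 < Nat.card K) :
    ∃ k l : K, k ≠ 1 ∧ l ≠ 1 ∧ ¬ IsConj k l := by
  classical
  by_contra hcon
  push Not at hcon
  have hnt : Nontrivial K := Finite.one_lt_card_iff_nontrivial.1 (by omega)
  obtain ⟨k, hk⟩ := exists_ne (1 : K)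
  have h1 := Cfsg.Agent.SmallSimple.SelfCentPrime.card_carrier_mul_card_centralizer k
  have h2 : (ConjClasses.mk k).carrier = {1}ᶜ := by
    ext l
    rw [ConjClasses.mem_carrier_iff_mk_eq, ConjClasses.mk_eq_mk_iff_isConj, Set.mem_compl_singleton_iff]
    constructor
    · rintro h3 rfl
      exact hk (isConj_one_right.1 h3)
    · exact fun h3 => hcon l k h3 hk
  have h3 : Nat.card (ConjClasses.mk k).carrier = Nat.card K - 1 := by
    rw [h2]
    have h4 := Set.ncard_compl ({1} : Set K)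
    rw [Set.ncard_singleton] at h4
    exact h4
  rw [h3] at h1
  have h4 : (Nat.card K - 1) ∣ Nat.card K := Dvd.intro _ h1
  have h5 : (Nat.card K - 1) ∣ Nat.card K - (Nat.card K - 1) := Nat.dvd_sub h4 (dvd_refl _)
  have h6 : Nat.card K - (Nat.card K - 1) = 1 := by omega
  rw [h6, Nat.dvd_one] at h5
  omega

section prime

variable {G : Type*} [Group G] {p : ℕ} [hp : Fact p.Prime]

/-- a complement of `⟨x⟩` in the centralizer of `x` -/
theorem exists_compl [Finite G] {x : G} (hx : orderOf x = p) {c : ℕ}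
    (hc : Nat.card (Subgroup.centralizer ({x} : Set G)) = p * c) (hpc : ¬ p ∣ c) :
    ∃ K : Subgroup G, Nat.card K = c ∧ K ≤ Subgroup.centralizer ({x} : Set G) ∧
      ∀ g ∈ Subgroup.centralizer ({x} : Set G), ∃ z ∈ Subgroup.zpowers x, ∃ k ∈ K, g = z * k := by
  classical
  set C := Subgroup.centralizer ({x} : Set G) with hC
  have hxC : x ∈ C := by rw [hC, Subgroup.mem_centralizer_singleton_iff]
  set N : Subgroup C := Subgroup.zpowers ⟨x, hxC⟩ with hN
  have hNle : N ≤ Subgroup.center C := by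
    rw [hN, Subgroup.zpowers_le, Subgroup.mem_center_iff]
    intro g
    apply Subtype.ext
    exact Subgroup.mem_centralizer_singleton_iff.1 g.2
  have hNn : N.Normal := by
    constructor
    intro n hn g
    have h1 := Subgroup.mem_center_iff.1 (hNle hn) g
    rw [h1, mul_inv_cancel_right]
    exact hn
  have hNc : Nat.card N = p := by
    rw [hN, Nat.card_zpowers, Subgroup.orderOf_mk, hx]
  have hidx : N.index = c := by
    have h1 := N.card_mul_index
    rw [hNc, hc] at h1
    exact Nat.eq_of_mul_eq_mul_left hp.out.pos h1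
  obtain ⟨K, hK⟩ := Subgroup.exists_right_complement'_of_coprime (N := N) (by
    rw [hNc, hidx]
    exact (Nat.Prime.coprime_iff_not_dvd hp.out).2 hpc)
  refine ⟨K.map C.subtype, ?_, ?_, ?_⟩
  · rw [Subgroup.card_map_of_injective (Subgroup.subtype_injective C)]
    have h1 := hK.symm.index_eq_card
    rw [← hidx]
    exact h1.symm
  · rintro g hg
    obtain ⟨k, -, rfl⟩ := Subgroup.mem_map.1 hg
    exact k.2
  · intro g hg
    obtain ⟨⟨n, k⟩, hnk, -⟩ := hK.existsUnique ⟨g, hg⟩
    refine ⟨n, ?_, k, ?_, ?_⟩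
    · obtain ⟨j, hj⟩ := Subgroup.mem_zpowers_iff.1 n.2
      rw [← hj]
      exact Subgroup.zpow_mem _ (Subgroup.mem_zpowers x) j
    · exact Subgroup.mem_map_of_mem C.subtype k.2
    · have := congrArg (Subtype.val : C → G) hnk
      exact this.symm

/-- fusion of `x * k` is controlled by the centralizer of `x` -/
theorem isConj_of_isConj_mul [Finite G] {x : G} (hx : orderOf x = p) {K : Subgroup G}
    (hKC : K ≤ Subgroup.centralizer ({x} : Set G)) (hpK : ¬ p ∣ Nat.card K)
    (hdec : ∀ g ∈ Subgroup.centralizer ({x} : Set G), ∃ z ∈ Subgroup.zpowers x, ∃ k ∈ K, g = z * k)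
    (k l : K) (h : IsConj (x * (k : G)) (x * (l : G))) : IsConj k l := by
  classical
  obtain ⟨g, hg⟩ := isConj_iff.1 h
  set c := Nat.card K with hcdef
  have hcop : Nat.Coprime p c := (Nat.Prime.coprime_iff_not_dvd hp.out).2 hpK
  obtain ⟨m, hm1, hm2⟩ := Nat.chineseRemainder hcop 1 0
  have hcomm : ∀ k : K, Commute x (k : G) := fun k =>
    (Subgroup.mem_centralizer_singleton_iff.1 (hKC k.2)).symm
  have hpow : ∀ k : K, (x * (k : G)) ^ m = x := by
    intro k
    rw [(hcomm k).mul_pow]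
    have h1 : x ^ m = x := by
      have h2 : x ^ m = x ^ 1 := by
        rw [pow_eq_pow_iff_modEq, hx]
        exact hm1
      rw [h2, pow_one]
    have h2 : (k : G) ^ m = 1 := by
      have h3 : c ∣ m := (Nat.modEq_zero_iff_dvd).1 hm2
      have h4 : orderOf k ∣ m := (orderOf_dvd_natCard k).trans h3
      have h5 := orderOf_dvd_iff_pow_eq_one.1 h4
      have := congrArg (Subtype.val : K → G) h5
      exact this
    rw [h1, h2, mul_one]
  have hgx : g * x * g⁻¹ = x := by
    have h1 := congrArg (· ^ m) hg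
    simp only [conj_pow, hpow] at h1
    exact h1
  have hgC : g ∈ Subgroup.centralizer ({x} : Set G) := by
    rw [Subgroup.mem_centralizer_singleton_iff]
    exact mul_inv_eq_iff_eq_mul.1 hgx
  obtain ⟨z, hz, y, hy, rfl⟩ := hdec g hgC
  have h1 : (z * y) * (k : G) * (z * y)⁻¹ = l := by
    have h2 : (z * y) * (x * (k : G)) * (z * y)⁻¹ =
        ((z * y) * x * (z * y)⁻¹) * ((z * y) * (k : G) * (z * y)⁻¹) := by group
    rw [h2, hgx] at hg
    exact mul_left_cancel hg
  have hzC : ∀ w : K, z * (w : G) * z⁻¹ = w := by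
    intro w
    obtain ⟨j, rfl⟩ := Subgroup.mem_zpowers_iff.1 hz
    have h2 : Commute (x ^ j) (w : G) := (hcomm w).zpow_left j
    rw [h2.eq, mul_inv_cancel_right]
  rw [isConj_iff]
  refine ⟨⟨y, hy⟩, ?_⟩
  apply Subtype.ext
  show y * (k : G) * y⁻¹ = l
  have h3 : z * (((⟨y, hy⟩ * k * ⟨y, hy⟩⁻¹ : K) : G)) * z⁻¹ = l := by
    rw [← h1]
    simp only [Subgroup.coe_mul, Subgroup.coe_inv]
    group
  rw [hzC] at h3
  exact h3

theorem orderOf_mul_compl [Finite G] {x : G} (hx : orderOf x = p) {K : Subgroup G}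
    (hKC : K ≤ Subgroup.centralizer ({x} : Set G)) (hpK : ¬ p ∣ Nat.card K) (k : K) :
    orderOf (x * (k : G)) = p * orderOf k := by
  have hcomm : Commute x (k : G) := (Subgroup.mem_centralizer_singleton_iff.1 (hKC k.2)).symm
  rw [hcomm.orderOf_mul_eq_mul_orderOf_of_coprime, hx, Subgroup.orderOf_coe]
  rw [hx, Subgroup.orderOf_coe]
  refine (Nat.Prime.coprime_iff_not_dvd hp.out).2 fun h => hpK (h.trans (orderOf_dvd_natCard k))

/-- a non-conjugate power -/
theorem exists_pow_not_isConj {x : G} (ht : 2 ≤ (sing p x).card) :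
    ∃ i : ZMod p, i ≠ 0 ∧ ¬ IsConj x (x ^ i.val) := by
  classical
  have h1 : ∃ c ∈ sing p x, c ≠ ConjClasses.mk x := by
    by_contra hcon
    push Not at hcon
    have h2 : sing p x ⊆ {ConjClasses.mk x} := fun c hc => Finset.mem_singleton.2 (hcon c hc)
    have h3 := Finset.card_le_card h2
    rw [Finset.card_singleton] at h3
    omega
  obtain ⟨c, hc, hne⟩ := h1
  obtain ⟨i, hi, rfl⟩ := mem_sing.1 hc
  refine ⟨i, hi, fun h => hne ?_⟩
  rw [ConjClasses.mk_eq_mk_iff_isConj]
  exact h.symm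

theorem orderOf_pow_val {x : G} (hx : orderOf x = p) {i : ZMod p} (hi : i ≠ 0) :
    orderOf (x ^ i.val) = p := by
  rw [orderOf_pow' _ (by rwa [Ne, ZMod.val_eq_zero]), hx]
  have h1 : Nat.gcd p i.val = 1 := by
    rw [← Nat.coprime_iff_gcd_eq_one, Nat.Prime.coprime_iff_not_dvd hp.out]
    intro h
    exact hi ((ZMod.val_eq_zero i).1 (Nat.eq_zero_of_dvd_of_lt h (ZMod.val_lt i)))
  rw [h1, Nat.div_one]

omit hp in
theorem orderOf_cj (g x : G) : orderOf (g * x * g⁻¹) = orderOf x :=
  (MulAut.conj g).orderOf_eq x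

omit hp in
theorem nonConj_of_orderOf {x y : G} (h : orderOf x ≠ orderOf y) : ¬ IsConj x y := by
  intro hc
  obtain ⟨c, hc⟩ := isConj_iff.1 hc
  apply h
  rw [← hc, orderOf_cj]

omit hp in
theorem nonConj_triple [DecidableEq G] {x y z : G} (h1 : ¬ IsConj x y) (h2 : ¬ IsConj x z)
    (h3 : ¬ IsConj y z) : NonConj ({x, y, z} : Finset G) ∧ ({x, y, z} : Finset G).card = 3 := by
  constructor
  · intro a ha b hb hab
    simp only [Finset.mem_insert, Finset.mem_singleton] at ha hb
    rcases ha with rfl | rfl | rfl <;> rcases hb with rfl | rfl | rfl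
    · rfl
    · exact absurd hab h1
    · exact absurd hab h2
    · exact absurd hab.symm h1
    · rfl
    · exact absurd hab h3
    · exact absurd hab.symm h2
    · exact absurd hab.symm h3
    · rfl
  · rw [Finset.card_eq_three]
    refine ⟨x, y, z, ?_, ?_, ?_, rfl⟩
    · rintro rfl; exact h1 (IsConj.refl x)
    · rintro rfl; exact h2 (IsConj.refl x)
    · rintro rfl; exact h3 (IsConj.refl y)

theorem not_dvd_of_card [Finite G] (hG : (Nat.card G).factorization p = 1) {x : G} {c : ℕ}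
    (hc : Nat.card (Subgroup.centralizer ({x} : Set G)) = p * c) : ¬ p ∣ c := by
  rintro ⟨d, rfl⟩
  have h1 : p ^ 2 ∣ Nat.card G := by
    refine Dvd.dvd.trans ?_ (Subgroup.card_subgroup_dvd_card (Subgroup.centralizer ({x} : Set G)))
    rw [hc]
    exact ⟨d, by ring⟩
  have h2 := (hp.out.pow_dvd_iff_le_factorization (Nat.card_pos (α := G)).ne').1 h1
  omega

omit hp in
theorem exists_card_centralizer [Finite G] {x : G} (hx : orderOf x = p) :
    ∃ c, Nat.card (Subgroup.centralizer ({x} : Set G)) = p * c := by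
  have hxC : x ∈ Subgroup.centralizer ({x} : Set G) := by
    rw [Subgroup.mem_centralizer_singleton_iff]
  have h1 : orderOf (⟨x, hxC⟩ : Subgroup.centralizer ({x} : Set G)) = p := by
    rw [Subgroup.orderOf_mk, hx]
  have h2 := orderOf_dvd_natCard (⟨x, hxC⟩ : Subgroup.centralizer ({x} : Set G))
  rw [h1] at h2
  exact h2

/-- some `p`-singular element of order different from `p` forces a larger centralizer -/
theorem two_le_of_singular [Finite G] (hG : (Nat.card G).factorization p = 1) {x : G}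
    (hx : orderOf x = p) {c : ℕ} (hc : Nat.card (Subgroup.centralizer ({x} : Set G)) = p * c)
    {y : G} (hy : p ∣ orderOf y) (hy' : orderOf y ≠ p) : 2 ≤ c := by
  classical
  by_contra hcon
  have hc1 : c = 1 := by
    have : 0 < p * c := hc ▸ Nat.card_pos
    have := Nat.pos_of_mul_pos_left this
    omega
  rw [hc1, mul_one] at hc
  obtain ⟨m, hm⟩ := hy
  have hy0 : 0 < orderOf y := orderOf_pos y
  have hm0 : 0 < m := by
    rcases Nat.eq_zero_or_pos m with h | h
    · rw [h, mul_zero] at hm; omega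
    · exact h
  set w := y ^ m with hw
  have hwo : orderOf w = p := by
    rw [hw, orderOf_pow' _ hm0.ne', hm, Nat.gcd_eq_right (Dvd.intro_left p rfl),
      Nat.mul_div_cancel _ hm0]
  -- `⟨w⟩` is conjugate to `⟨x⟩`
  have hcx : Nat.card (Subgroup.zpowers x) = p ^ (Nat.card G).factorization p := by
    rw [Nat.card_zpowers, hx, hG, pow_one]
  have hcw : Nat.card (Subgroup.zpowers w) = p ^ (Nat.card G).factorization p := by
    rw [Nat.card_zpowers, hwo, hG, pow_one]
  let P : Sylow p G := Sylow.ofCard (Subgroup.zpowers x) hcx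
  let Q : Sylow p G := Sylow.ofCard (Subgroup.zpowers w) hcw
  obtain ⟨g, hg⟩ := MulAction.exists_smul_eq G Q P
  have h1 : g * w * g⁻¹ ∈ Subgroup.zpowers x := by
    have h2 : g * w * g⁻¹ ∈ (g • Q : Sylow p G) := by
      rw [Sylow.smul_def]
      exact ⟨w, Subgroup.mem_zpowers w, rfl⟩
    rw [hg] at h2
    exact h2
  have hwne : g * w * g⁻¹ ≠ 1 := by
    intro h
    rw [conj_eq_one_iff] at h
    rw [h, orderOf_one] at hwo
    exact hp.out.one_lt.ne hwo
  -- `x` is a power of `g * w * g⁻¹`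
  have h3 : x ∈ Subgroup.zpowers (g * w * g⁻¹) := by
    have h4 : Subgroup.zpowers (g * w * g⁻¹) = Subgroup.zpowers x := by
      refine Subgroup.eq_of_le_of_card_ge (Subgroup.zpowers_le.2 h1) ?_
      rw [Nat.card_zpowers, Nat.card_zpowers, hx, orderOf_cj, hwo]
    rw [h4]
    exact Subgroup.mem_zpowers x
  have h5 : g * y * g⁻¹ ∈ Subgroup.centralizer ({x} : Set G) := by
    rw [Subgroup.mem_centralizer_singleton_iff]
    obtain ⟨j, hj⟩ := Subgroup.mem_zpowers_iff.1 h3
    have h6 : Commute (g * y * g⁻¹) (g * w * g⁻¹) := by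
      rw [hw, ← conj_pow]
      exact (Commute.refl _).pow_right m
    have h7 := h6.zpow_right j
    rw [hj] at h7
    exact h7
  have h6 : orderOf (⟨g * y * g⁻¹, h5⟩ : Subgroup.centralizer ({x} : Set G)) ∣ p := by
    rw [← hc]
    exact orderOf_dvd_natCard _
  rw [Subgroup.orderOf_mk, orderOf_cj, hm] at h6
  have h7 := Nat.le_of_dvd hp.out.pos h6
  have h8 : m = 1 := by
    by_contra h
    have : p * 2 ≤ p * m := Nat.mul_le_mul_left p (by omega)
    have := hp.out.pos
    omega
  rw [h8, mul_one] at hm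
  exact hy' hm

/-- **Three singular classes.** -/
theorem three_classes [Finite G] [DecidableEq G] (hG : (Nat.card G).factorization p = 1) {x y : G}
    (hx : orderOf x = p) (hy : p ∣ orderOf y) (hy' : orderOf y ≠ p)
    (h : (Nat.card G / p + 2) % p ≠ 0) :
    ∃ s : Finset G, NonConj s ∧ s.card = 3 ∧ ∀ g ∈ s, p ∣ orderOf g := by
  obtain ⟨c, hc⟩ := exists_card_centralizer hx
  have hpc := not_dvd_of_card hG hc
  have hxp : x ^ p = 1 := by rw [← hx]; exact pow_orderOf_eq_one x
  have het := card_fus_mul_card_sing hxp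
  by_cases ht : 2 ≤ (sing p x).card
  · obtain ⟨i, hi, hni⟩ := exists_pow_not_isConj ht
    obtain ⟨h1, h2⟩ := nonConj_triple hni
      (nonConj_of_orderOf (x := x) (y := y) (by rw [hx]; exact hy'.symm))
      (nonConj_of_orderOf (x := x ^ i.val) (y := y) (by rw [orderOf_pow_val hx hi]; exact hy'.symm))
    refine ⟨_, h1, h2, ?_⟩
    intro g hg
    simp only [Finset.mem_insert, Finset.mem_singleton] at hg
    rcases hg with rfl | rfl | rfl
    · rw [hx]
    · rw [orderOf_pow_val hx hi]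
    · exact hy
  · have hp2 := hp.out.two_le
    have ht1 : (sing p x).card = 1 := by
      have : (sing p x).card ≠ 0 := by
        intro h0
        rw [h0] at het
        omega
      omega
    rw [ht1, mul_one] at het
    have h1 := card_fus_mul hG hx hc
    rw [het] at h1
    have hc2 := two_le_of_singular hG hx hc hy hy'
    have hc3 : 2 < c := by
      rcases Nat.lt_or_ge 2 c with h2 | h2
      · exact h2
      · exfalso
        have h3 : c = 2 := by omega
        rw [h3] at h1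
        apply h
        have h4 : ((p - 1) * 2 + 2) % p = (Nat.card G / p + 2) % p := h1.add_right 2
        have h5 : (p - 1) * 2 + 2 = p * 2 := by
          obtain ⟨q, hq⟩ : ∃ q, p = q + 1 := ⟨p - 1, by omega⟩
          rw [hq, Nat.add_sub_cancel]
          ring
        rw [← h4, h5, Nat.mul_mod_right]
    obtain ⟨K, hK1, hK2, hK3⟩ := exists_compl hx hc hpc
    obtain ⟨k, l, hk, hl, hkl⟩ := exists_nonConj (K := K) (by rw [hK1]; exact hc3)
    have hpK : ¬ p ∣ Nat.card K := by rw [hK1]; exact hpc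
    have ho : ∀ w : K, w ≠ 1 → orderOf (x * (w : G)) ≠ p := by
      intro w hw h2
      rw [orderOf_mul_compl hx hK2 hpK] at h2
      have h3 : orderOf w = 1 := Nat.eq_of_mul_eq_mul_left hp.out.pos (h2.trans (mul_one p).symm)
      exact hw (orderOf_eq_one_iff.1 h3)
    obtain ⟨h2, h3⟩ := nonConj_triple
      (nonConj_of_orderOf (x := x) (y := x * (k : G)) (by rw [hx]; exact (ho k hk).symm))
      (nonConj_of_orderOf (x := x) (y := x * (l : G)) (by rw [hx]; exact (ho l hl).symm))
      (fun h4 => hkl (isConj_of_isConj_mul hx hK2 hpK hK3 k l h4))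
    refine ⟨_, h2, h3, ?_⟩
    intro g hg
    simp only [Finset.mem_insert, Finset.mem_singleton] at hg
    rcases hg with rfl | rfl | rfl
    · rw [hx]
    · rw [orderOf_mul_compl hx hK2 hpK]; exact Dvd.intro _ rfl
    · rw [orderOf_mul_compl hx hK2 hpK]; exact Dvd.intro _ rfl

/-- **Two singular classes.** -/
theorem two_classes [Finite G] (hG : (Nat.card G).factorization p = 1) {x : G}
    (hx : orderOf x = p) (h : (Nat.card G / p + 1) % p ≠ 0) :
    ∃ y z : G, ¬ IsConj y z ∧ p ∣ orderOf y ∧ p ∣ orderOf z := by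
  obtain ⟨c, hc⟩ := exists_card_centralizer hx
  have hpc := not_dvd_of_card hG hc
  have hxp : x ^ p = 1 := by rw [← hx]; exact pow_orderOf_eq_one x
  have het := card_fus_mul_card_sing hxp
  by_cases ht : 2 ≤ (sing p x).card
  · obtain ⟨i, hi, hni⟩ := exists_pow_not_isConj ht
    exact ⟨x, x ^ i.val, hni, by rw [hx], by rw [orderOf_pow_val hx hi]⟩
  · have hp2 := hp.out.two_le
    have ht1 : (sing p x).card = 1 := by
      have : (sing p x).card ≠ 0 := by
        intro h0
        rw [h0] at het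
        omega
      omega
    rw [ht1, mul_one] at het
    have h1 := card_fus_mul hG hx hc
    rw [het] at h1
    have hc2 : 1 < c := by
      have hc0 : c ≠ 0 := fun h0 => hpc (h0 ▸ dvd_zero p)
      rcases Nat.lt_or_ge 1 c with h2 | h2
      · exact h2
      · exfalso
        have h3 : c = 1 := by omega
        rw [h3] at h1
        apply h
        have h4 : ((p - 1) * 1 + 1) % p = (Nat.card G / p + 1) % p := h1.add_right 1
        have h5 : (p - 1) * 1 + 1 = p := by omega
        rw [← h4, h5, Nat.mod_self]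
    obtain ⟨K, hK1, hK2, hK3⟩ := exists_compl hx hc hpc
    have hpK : ¬ p ∣ Nat.card K := by rw [hK1]; exact hpc
    have hnt : Nontrivial K := Finite.one_lt_card_iff_nontrivial.1 (by rw [hK1]; exact hc2)
    obtain ⟨k, hk⟩ := exists_ne (1 : K)
    refine ⟨x, x * (k : G), nonConj_of_orderOf ?_, by rw [hx], ?_⟩
    · rw [orderOf_mul_compl hx hK2 hpK, hx]
      intro h2
      have h3 : orderOf k = 1 := Nat.eq_of_mul_eq_mul_left hp.out.pos (h2.symm.trans (mul_one p).symm)
      exact hk (orderOf_eq_one_iff.1 h3)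
    · rw [orderOf_mul_compl hx hK2 hpK]; exact Dvd.intro _ rfl

end prime

end Cfsg.Agent.H859.Two
end

-- part: H859/Two/Deg
section
/-!
# Two degrees with three classes of zeros each (S4897)

* `ZS d G` : every irreducible character of degree `d` vanishes on three classes since `d` has the full
  `r`-part of the group order for suitable primes `r`.
* `two_of_ZS`, `rowT_of`.
-/

set_option autoImplicit false

namespace Cfsg.Agent.H859.Two

open Cfsg Cfsg.Agent.H504.TwoZ Cfsg.Agent.H504.Zeros Cfsg.Agent.H713 Cfsg.Agent.H713.Count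

universe u

variable {G : Type u} [Group G]

/-- three non-conjugate elements of orders divisible by primes for which `d` is of defect zero -/
def ZS (d : ℕ) (G : Type u) [Group G] : Prop :=
  ∃ s : Finset G, NonConj s ∧ 3 ≤ s.card ∧
    ∀ g ∈ s, ∃ r, r.Prime ∧ r ∣ orderOf g ∧ d.factorization r = (Nat.card G).factorization r

theorem two_of_ZS [Finite G] {d e : ℕ} (hd : d ∈ charDegrees G) (he : e ∈ charDegrees G) (hne : d ≠ e)
    (h : ZS d G) (h' : ZS e G) : Two G := by
  obtain ⟨χ, hχ⟩ := hd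
  obtain ⟨ψ, hψ⟩ := he
  obtain ⟨s, hs, hs3, hsz⟩ := h
  obtain ⟨t, ht, ht3, htz⟩ := h'
  refine two_of_zeros (χ := χ) (ψ := ψ) ?_ s t hs ht ?_ ?_ hs3 ht3
  · rintro rfl
    exact hne (hχ.symm.trans hψ)
  · intro g hg
    obtain ⟨r, hr, hrg, hrd⟩ := hsz g hg
    have := Fact.mk hr
    exact irr_zero_of_singular (by rw [hχ, hrd]) hrg
  · intro g hg
    obtain ⟨r, hr, hrg, hrd⟩ := htz g hg
    have := Fact.mk hr
    exact irr_zero_of_singular (by rw [hψ, hrd]) hrg

/-- three different orders -/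
theorem ZS.of_primes [Finite G] {d a b c : ℕ} (ha : a.Prime) (hb : b.Prime) (hc : c.Prime) (hab : a ≠ b)
    (hac : a ≠ c) (hbc : b ≠ c) (hGa : a ∣ Nat.card G) (hGb : b ∣ Nat.card G) (hGc : c ∣ Nat.card G)
    (hda : d.factorization a = (Nat.card G).factorization a)
    (hdb : d.factorization b = (Nat.card G).factorization b)
    (hdc : d.factorization c = (Nat.card G).factorization c) : ZS d G := by
  classical
  have := Fact.mk ha
  have := Fact.mk hb
  have := Fact.mk hc
  obtain ⟨x, hx⟩ := exists_prime_orderOf_dvd_card' (G := G) a hGa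
  obtain ⟨y, hy⟩ := exists_prime_orderOf_dvd_card' (G := G) b hGb
  obtain ⟨z, hz⟩ := exists_prime_orderOf_dvd_card' (G := G) c hGc
  obtain ⟨h1, h2⟩ := nonConj_triple (nonConj_of_orderOf (x := x) (y := y) (by rw [hx, hy]; exact hab))
    (nonConj_of_orderOf (x := x) (y := z) (by rw [hx, hz]; exact hac))
    (nonConj_of_orderOf (x := y) (y := z) (by rw [hy, hz]; exact hbc))
  refine ⟨_, h1, h2.ge, ?_⟩
  intro g hg
  simp only [Finset.mem_insert, Finset.mem_singleton] at hg
  rcases hg with rfl | rfl | rfl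
  · exact ⟨a, ha, by rw [hx], hda⟩
  · exact ⟨b, hb, by rw [hy], hdb⟩
  · exact ⟨c, hc, by rw [hz], hdc⟩

/-- one prime with three singular classes -/
theorem ZS.of_prime [Finite G] {d p : ℕ} (hp : p.Prime) (hG : (Nat.card G).factorization p = 1)
    (hy : ∃ y : G, p ∣ orderOf y ∧ orderOf y ≠ p) (h : (Nat.card G / p + 2) % p ≠ 0)
    (hd : d.factorization p = (Nat.card G).factorization p) : ZS d G := by
  classical
  have := Fact.mk hp
  obtain ⟨y, hy1, hy2⟩ := hy
  have hpG : p ∣ Nat.card G := by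
    have := Nat.ordProj_dvd (Nat.card G) p
    rwa [hG, pow_one] at this
  obtain ⟨x, hx⟩ := exists_prime_orderOf_dvd_card' (G := G) p hpG
  obtain ⟨s, h1, h2, h3⟩ := three_classes hG hx hy1 hy2 h
  exact ⟨s, h1, h2.ge, fun g hg => ⟨p, hp, h3 g hg, hd⟩⟩

/-- one prime with two singular classes and a different prime -/
theorem ZS.of_two [Finite G] {d p r : ℕ} (hp : p.Prime) (hr : r.Prime) (hpr : p ≠ r)
    (hG : (Nat.card G).factorization p = 1) (hGr : r ∣ Nat.card G)
    (h : (Nat.card G / p + 1) % p ≠ 0)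
    (hd : d.factorization p = (Nat.card G).factorization p)
    (hdr : d.factorization r = (Nat.card G).factorization r) : ZS d G := by
  classical
  have := Fact.mk hp
  have := Fact.mk hr
  have hpG' : p ∣ Nat.card G := by
    have := Nat.ordProj_dvd (Nat.card G) p
    rwa [hG, pow_one] at this
  obtain ⟨x, hx⟩ := exists_prime_orderOf_dvd_card' (G := G) p hpG'
  obtain ⟨y, z, h1, h2, h3⟩ := two_classes hG hx h
  obtain ⟨w, hw⟩ := exists_prime_orderOf_dvd_card' (G := G) r hGr
  have hne : ∀ y : G, p ∣ orderOf y → ¬ IsConj y w := by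
    intro y hy
    refine nonConj_of_orderOf fun h => ?_
    rw [h, hw, Nat.prime_dvd_prime_iff_eq hp hr] at hy
    exact hpr hy
  obtain ⟨h4, h5⟩ := nonConj_triple h1 (hne y h2) (hne z h3)
  refine ⟨_, h4, h5.ge, ?_⟩
  intro g hg
  simp only [Finset.mem_insert, Finset.mem_singleton] at hg
  rcases hg with rfl | rfl | rfl
  · exact ⟨p, hp, h2, hd⟩
  · exact ⟨p, hp, h3, hd⟩
  · exact ⟨r, hr, by rw [hw], hdr⟩

/-- the degree of a character of defect zero -/
theorem exists_deg_of_dz {p : ℕ} (h : H665.NoPQ.HasDZ p G) :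
    ∃ d ∈ charDegrees G, d.factorization p = (Nat.card G).factorization p := by
  obtain ⟨χ, hχ⟩ := h
  exact ⟨_, ⟨χ, rfl⟩, hχ⟩

theorem rowT_of {S K : Type} [Group S] [Group K] [Finite K] (e : S ≃* K)
    (hin : ∀ φ : MulAut K, ∃ s : K, φ = MulAut.conj s) (h : Two K) : RowT S := by
  have : Finite S := Finite.of_equiv K e.symm.toEquiv
  exact RowT.of_equiv e ⟨Or.inl h, row2_of_inner hin⟩

end Cfsg.Agent.H859.Two
end

-- part: H859/Two/Sph
section
/-!
# Irreducible characters of known degree from a simple eigenvalue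

Variants of `H707.Odd.ratOdd_of_spherical`, `H707.Odd.ratOdd_of_collapse` (helper707) for every degree.
-/

set_option autoImplicit false

namespace Cfsg.Agent.H859.Two

open Cfsg Cfsg.Agent.H707.OddLift Cfsg.Agent.H707.Eigen Cfsg.Agent.H707.Collapse Cfsg.Agent.H707.Odd Representation

universe u

section Sph

variable {G : Type u} [Group G] [Finite G] {X : Type*} [Fintype X] [MulAction G X]

/-- Spherical vectors give characters of known degree. -/
theorem deg_of_spherical (htr : ∀ x y : X, ∃ g : G, g • x = y) (V : Submodule ℚ (X → ℚ))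
    (hV : ∀ (g : G), ∀ f ∈ V, (fun x => f (g • x)) ∈ V) (Q : Subgroup G) (x₀ : X)
    (h₀ : ∀ f ∈ V, ∀ q ∈ Q, f (q • x₀) = f x₀) (e₀ : X → ℚ) (he : e₀ ∈ V) (heQ : ∀ q ∈ Q, ∀ x, e₀ (q • x) = e₀ x)
    (he1 : e₀ x₀ = 1) (hone : ∀ f ∈ V, (∀ q ∈ Q, ∀ x, f (q • x) = f x) → ∃ c : ℚ, f = c • e₀)
    (d : ℕ) (hsum : (d : ℚ) * ∑ x, e₀ x ^ 2 = Fintype.card X) : d ∈ charDegrees G := by
  let ρ : Representation ℚ G V :=
    { toFun := fun g =>
        { toFun := fun φ => ⟨fun x => (φ : X → ℚ) (g⁻¹ • x), hV _ φ φ.2⟩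
          map_add' := fun _ _ => rfl
          map_smul' := fun _ _ => rfl }
      map_one' := by
        refine LinearMap.ext fun φ => Subtype.ext (funext fun x => ?_)
        show (φ : X → ℚ) ((1 : G)⁻¹ • x) = (φ : X → ℚ) x
        rw [inv_one, one_smul]
      map_mul' := fun g h => by
        refine LinearMap.ext fun φ => Subtype.ext (funext fun x => ?_)
        show (φ : X → ℚ) ((g * h)⁻¹ • x) = (φ : X → ℚ) (h⁻¹ • g⁻¹ • x)
        rw [mul_inv_rev, mul_smul] }
  have hρ : ∀ g (φ : V) x, ((ρ g φ : V) : X → ℚ) x = (φ : X → ℚ) (g⁻¹ • x) := fun _ _ _ => rfl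
  let e : V := ⟨e₀, he⟩
  have hne : e ≠ 0 := by
    intro h
    have h1 : e₀ x₀ = 0 := congrArg (fun φ : V => (φ : X → ℚ) x₀) h
    rw [he1] at h1
    exact one_ne_zero h1
  obtain ⟨χ, hχ, hrat, hdeg⟩ := exists_of_eigen ρ Q (fun _ => 1) e hne
    (by
      intro q hq
      rw [one_smul]
      refine Subtype.ext (funext fun x => ?_)
      rw [hρ]
      exact heQ _ (Q.inv_mem hq) x)
    (by
      intro φ hφ
      obtain ⟨c, hc⟩ := hone φ φ.2 (by
        intro q hq x
        have h1 := hφ q⁻¹ (Q.inv_mem hq)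
        rw [one_smul] at h1
        have h2 := congrArg (fun ψ : V => (ψ : X → ℚ) x) h1
        simp only [hρ, inv_inv] at h2
        exact h2)
      exact ⟨c, Subtype.ext hc⟩)
  -- the dimension
  obtain ⟨N, hN⟩ : ∃ N : Submodule ℚ V, N = Submodule.span ℚ (Set.range fun g => ρ g e) := ⟨_, rfl⟩
  rw [← hN] at hdeg
  have heN : e ∈ N := by
    rw [hN]
    exact Submodule.subset_span ⟨1, by show ρ 1 e = e; rw [map_one]; rfl⟩
  have hNinv : ∀ g, ∀ v ∈ N, ρ g v ∈ N := by
    intro g v hv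
    rw [hN] at hv ⊢
    induction hv using Submodule.span_induction with
    | mem x hx =>
      obtain ⟨h, rfl⟩ := hx
      refine Submodule.subset_span ⟨g * h, ?_⟩
      simp only [map_mul, Module.End.mul_apply]
    | zero => rw [map_zero]; exact Submodule.zero_mem _
    | add x y _ _ hx hy => rw [map_add]; exact Submodule.add_mem _ hx hy
    | smul c x _ hx => rw [map_smul]; exact Submodule.smul_mem _ c hx
  have hfin := finrank_mul_sum_sq htr (N.map V.subtype)
    (by
      rintro g f ⟨φ, hφ, rfl⟩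
      refine ⟨ρ g⁻¹ φ, hNinv _ φ hφ, ?_⟩
      funext x
      show (φ : X → ℚ) ((g⁻¹)⁻¹ • x) = (φ : X → ℚ) (g • x)
      rw [inv_inv])
    Q x₀
    (by
      rintro f ⟨φ, hφ, rfl⟩ q hq
      exact h₀ φ φ.2 q hq)
    e₀ ⟨e, heN, rfl⟩ heQ he1
    (by
      rintro f ⟨φ, hφ, rfl⟩ h
      exact hone φ φ.2 h)
  rw [LinearEquiv.finrank_eq (Submodule.equivMapOfInjective V.subtype V.injective_subtype N).symm, ← hsum] at hfin
  have hs0 : ∑ x, e₀ x ^ 2 ≠ 0 := by
    have h1 : e₀ x₀ ^ 2 ≤ ∑ x, e₀ x ^ 2 := Finset.single_le_sum (fun _ _ => sq_nonneg _) (Finset.mem_univ x₀)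
    rw [he1, one_pow] at h1
    positivity
  have hfd : (Module.finrank ℚ N : ℚ) = d := mul_right_cancel₀ hs0 hfin
  have hfd' : Module.finrank ℚ N = d := by exact_mod_cast hfd
  rw [hfd'] at hdeg
  refine ⟨⟨χ, hχ⟩, ?_⟩
  show charDegree χ = d
  have h1 := Cfsg.Agent.Blocks.Basic.irr_one_eq_charDegree hχ
  rw [hdeg] at h1
  exact_mod_cast h1.symm
end Sph

section Main

variable {G : Type u} [Group G] [Finite G] (K C : Subgroup G) {I J : Type} [Fintype I] [Fintype J]
  [DecidableEq I] [DecidableEq J]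

theorem deg_of_collapse (κ : G → I) (γ : G → J)
    (κl : ∀ h ∈ K, ∀ x, κ (h * x) = κ x) (κr : ∀ x, ∀ k ∈ K, κ (x * k) = κ x)
    (κs : ∀ x y, κ x = κ y → ∃ h ∈ K, ∃ k ∈ K, y = h * x * k)
    (γl : ∀ h ∈ K, ∀ x, γ (h * x) = γ x) (γr : ∀ x, ∀ c ∈ C, γ (x * c) = γ x)
    (γs : ∀ x y, γ x = γ y → ∃ h ∈ K, ∃ c ∈ C, y = h * x * c)
    (p : I → J → ℕ) (N : ℕ) (hN : N ≠ 0) (hp : ∀ i j, Nat.card {x : G // κ x = i ∧ γ x = j} = N * p i j)
    (hi : ∀ i, ∃ j, p i j ≠ 0) (hj : ∀ j, ∃ i, p i j ≠ 0)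
    (a : I → ℚ) (s : J → ℚ) (t : ℚ)
    (hs : ∀ j, (∑ i, (p i j : ℚ)) * s j = ∑ i, (p i j : ℚ) * a i)
    (ht : ∀ i, (∑ j, (p i j : ℚ)) * (t * a i) = ∑ j, (p i j : ℚ) * s j)
    (huniq : ∀ (a' : I → ℚ) (s' : J → ℚ), (∀ j, (∑ i, (p i j : ℚ)) * s' j = ∑ i, (p i j : ℚ) * a' i) →
      (∀ i, (∑ j, (p i j : ℚ)) * (t * a' i) = ∑ j, (p i j : ℚ) * s' j) → ∀ i, a' i = a' (κ 1) * a i)
    (ha1 : a (κ 1) = 1) (d : ℕ)
    (hsumd : (d : ℚ) * ∑ i, ∑ j, (p i j : ℚ) * a i ^ 2 = ∑ i, ∑ j, (p i j : ℚ)) : d ∈ charDegrees G := by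
  classical
  have := Fintype.ofFinite G
  have := Fintype.ofFinite K
  have := Fintype.ofFinite C
  have hN' : (N : ℚ) ≠ 0 := Nat.cast_ne_zero.2 hN
  have hK0 : (Fintype.card K : ℚ) ≠ 0 := Nat.cast_ne_zero.2 Fintype.card_ne_zero
  have hC0 : (Fintype.card C : ℚ) ≠ 0 := Nat.cast_ne_zero.2 Fintype.card_ne_zero
  have hp' : ∀ i j, ((Finset.univ.filter fun x : G => κ x = i ∧ γ x = j).card : ℚ) = N * p i j := by
    intro i j
    have := hp i j
    rw [Nat.card_eq_fintype_card, Fintype.card_subtype] at this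
    rw [this]
    push_cast
    ring
  have κsurj : ∀ i, ∃ x, κ x = i := by
    intro i
    obtain ⟨j, hj⟩ := hi i
    have h1 : (Finset.univ.filter fun x : G => κ x = i ∧ γ x = j).card ≠ 0 := by
      intro h
      have := hp' i j
      rw [h, Nat.cast_zero] at this
      exact mul_ne_zero hN' (Nat.cast_ne_zero.2 hj) this.symm
    obtain ⟨x, hx⟩ := Finset.card_ne_zero.1 h1
    exact ⟨x, (Finset.mem_filter.1 hx).2.1⟩
  have γsurj : ∀ j, ∃ x, γ x = j := by
    intro j
    obtain ⟨i, hi⟩ := hj j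
    have h1 : (Finset.univ.filter fun x : G => κ x = i ∧ γ x = j).card ≠ 0 := by
      intro h
      have := hp' i j
      rw [h, Nat.cast_zero] at this
      exact mul_ne_zero hN' (Nat.cast_ne_zero.2 hi) this.symm
    obtain ⟨x, hx⟩ := Finset.card_ne_zero.1 h1
    exact ⟨x, (Finset.mem_filter.1 hx).2.2⟩
  -- sums over the fibres
  have sumγ : ∀ (f : I → ℚ) (j : J), ∑ y ∈ Finset.univ.filter (fun y => γ y = j), f (κ y) =
      N * ∑ i, (p i j : ℚ) * f i := by
    intro f j
    rw [← Finset.sum_fiberwise_of_maps_to (s := Finset.univ.filter (fun y => γ y = j)) (t := Finset.univ)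
      (g := κ) (fun _ _ => Finset.mem_univ _), Finset.mul_sum]
    refine Finset.sum_congr rfl fun i _ => ?_
    rw [Finset.filter_filter]
    have h1 : ∀ y ∈ Finset.univ.filter (fun y => γ y = j ∧ κ y = i), f (κ y) = f i := by
      intro y hy
      rw [(Finset.mem_filter.1 hy).2.2]
    rw [Finset.sum_congr rfl h1, Finset.sum_const, nsmul_eq_mul]
    have h2 : Finset.univ.filter (fun y => γ y = j ∧ κ y = i) = Finset.univ.filter (fun y => κ y = i ∧ γ y = j) := by
      ext y; simp [and_comm]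
    rw [h2, hp']
    ring
  have sumκ : ∀ (f : J → ℚ) (i : I), ∑ y ∈ Finset.univ.filter (fun y => κ y = i), f (γ y) =
      N * ∑ j, (p i j : ℚ) * f j := by
    intro f i
    rw [← Finset.sum_fiberwise_of_maps_to (s := Finset.univ.filter (fun y => κ y = i)) (t := Finset.univ)
      (g := γ) (fun _ _ => Finset.mem_univ _), Finset.mul_sum]
    refine Finset.sum_congr rfl fun j _ => ?_
    rw [Finset.filter_filter]
    have h1 : ∀ y ∈ Finset.univ.filter (fun y => κ y = i ∧ γ y = j), f (γ y) = f j := by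
      intro y hy
      rw [(Finset.mem_filter.1 hy).2.2]
    rw [Finset.sum_congr rfl h1, Finset.sum_const, nsmul_eq_mul, hp']
    ring
  have cardγ : ∀ j, ((Finset.univ.filter fun y => γ y = j).card : ℚ) = N * ∑ i, (p i j : ℚ) := by
    intro j
    have h1 := sumγ (fun _ => 1) j
    simp only [mul_one, Finset.sum_const, nsmul_eq_mul] at h1
    exact h1
  have cardκ : ∀ i, ((Finset.univ.filter fun y => κ y = i).card : ℚ) = N * ∑ j, (p i j : ℚ) := by
    intro i
    have h1 := sumκ (fun _ => 1) i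
    simp only [mul_one, Finset.sum_const, nsmul_eq_mul] at h1
    exact h1
  -- the two averaging steps
  have stepC : ∀ (f : I → ℚ) (x : G), (∑ i, (p i (γ x) : ℚ)) * ∑ c : C, f (κ (x * c)) =
      Fintype.card C * ∑ i, (p i (γ x) : ℚ) * f i := by
    intro f x
    have h1 := avg K C γ γr γs (fun y => f (κ y)) (fun l hl y => by rw [κl l hl]) x
    rw [cardγ, sumγ] at h1
    have h2 : (N : ℚ) * ((∑ i, (p i (γ x) : ℚ)) * ∑ c : C, f (κ (x * c))) =
        N * (Fintype.card C * ∑ i, (p i (γ x) : ℚ) * f i) := by linear_combination h1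
    exact mul_left_cancel₀ hN' h2
  have stepK : ∀ (f : J → ℚ) (x : G), (∑ j, (p (κ x) j : ℚ)) * ∑ k : K, f (γ (x * k)) =
      Fintype.card K * ∑ j, (p (κ x) j : ℚ) * f j := by
    intro f x
    have h1 := avg K K κ κr κs (fun y => f (γ y)) (fun l hl y => by rw [γl l hl]) x
    rw [cardκ, sumκ] at h1
    have h2 : (N : ℚ) * ((∑ j, (p (κ x) j : ℚ)) * ∑ k : K, f (γ (x * k))) =
        N * (Fintype.card K * ∑ j, (p (κ x) j : ℚ) * f j) := by linear_combination h1
    exact mul_left_cancel₀ hN' h2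
  have nzγ : ∀ j, (∑ i, (p i j : ℚ)) ≠ 0 := by
    intro j h
    obtain ⟨x, hx⟩ := γsurj j
    have h1 := cardγ j
    rw [h, mul_zero, Nat.cast_eq_zero, Finset.card_eq_zero] at h1
    have h2 : x ∈ Finset.univ.filter fun y => γ y = j := Finset.mem_filter.2 ⟨Finset.mem_univ _, hx⟩
    rw [h1] at h2
    exact Finset.notMem_empty _ h2
  have nzκ : ∀ i, (∑ j, (p i j : ℚ)) ≠ 0 := by
    intro i h
    obtain ⟨x, hx⟩ := κsurj i
    have h1 := cardκ i
    rw [h, mul_zero, Nat.cast_eq_zero, Finset.card_eq_zero] at h1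
    have h2 : x ∈ Finset.univ.filter fun y => κ y = i := Finset.mem_filter.2 ⟨Finset.mem_univ _, hx⟩
    rw [h1] at h2
    exact Finset.notMem_empty _ h2
  -- the module
  let V : Submodule ℚ (G → ℚ) :=
    { carrier := {φ | (∀ x, ∀ k ∈ K, φ (x * k) = φ x) ∧
        ∀ x, ∑ k : K, ∑ c : C, φ (x * k * c) = t * Fintype.card K * Fintype.card C * φ x}
      add_mem' := by
        rintro φ ψ ⟨h1, h2⟩ ⟨h3, h4⟩
        refine ⟨fun x k hk => by rw [Pi.add_apply, Pi.add_apply, h1 x k hk, h3 x k hk], fun x => ?_⟩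
        simp only [Pi.add_apply, Finset.sum_add_distrib, h2, h4]
        ring
      zero_mem' := ⟨fun _ _ _ => rfl, fun x => by simp⟩
      smul_mem' := by
        rintro c φ ⟨h1, h2⟩
        refine ⟨fun x k hk => by rw [Pi.smul_apply, Pi.smul_apply, h1 x k hk], fun x => ?_⟩
        simp only [Pi.smul_apply, smul_eq_mul, ← Finset.mul_sum, h2]
        ring }
  have hVG : ∀ (g : G) (φ : G → ℚ), φ ∈ V → (fun x => φ (g⁻¹ * x)) ∈ V := by
    rintro g φ ⟨h1, h2⟩
    refine ⟨fun x k hk => ?_, fun x => ?_⟩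
    · show φ (g⁻¹ * (x * k)) = φ (g⁻¹ * x)
      rw [← mul_assoc, h1 _ k hk]
    · have h3 := h2 (g⁻¹ * x)
      simp only [mul_assoc] at h3 ⊢
      exact h3
  have hcard2 : ∀ x, (∑ k : K, ∑ c : C, a (κ (x * k * c))) = t * Fintype.card K * Fintype.card C * a (κ x) := by
    intro x
    have h1 : ∀ y, ∑ c : C, a (κ (y * c)) = Fintype.card C * s (γ y) := by
      intro y
      have h2 := stepC a y
      rw [← hs] at h2
      exact mul_left_cancel₀ (nzγ (γ y)) (by linear_combination h2)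
    have h5 : ∑ k : K, ∑ c : C, a (κ (x * k * c)) = ∑ k : K, (Fintype.card C : ℚ) * s (γ (x * k)) :=
      Finset.sum_congr rfl fun k _ => h1 (x * k)
    rw [h5, ← Finset.mul_sum]
    have h3 := stepK s x
    rw [← ht] at h3
    have h4 : ∑ k : K, s (γ (x * k)) = Fintype.card K * (t * a (κ x)) :=
      mul_left_cancel₀ (nzκ (κ x)) (by linear_combination h3)
    rw [h4]
    ring
  have he : (fun x => a (κ x)) ∈ V := ⟨fun x k hk => by show a (κ (x * k)) = a (κ x); rw [κr x k hk], hcard2⟩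
  refine deg_of_spherical (fun x y => ⟨y * x⁻¹, by rw [smul_eq_mul, inv_mul_cancel_right]⟩) V (fun g f hf => ?_) K
    (1 : G) ?_ (fun x => a (κ x)) he ?_ ha1 ?_ d ?_
  · have h1 := hVG g⁻¹ f hf
    rw [inv_inv] at h1
    exact h1
  · intro f hf q hq
    have h1 := hf.1 1 q hq
    rw [one_mul] at h1
    rw [smul_eq_mul, mul_one]
    exact h1
  · intro q hq x
    show a (κ (q * x)) = a (κ x)
    rw [κl _ hq]
  · intro φ hφV hφ
    have hl : ∀ h ∈ K, ∀ x, φ (h * x) = φ x := hφ
    obtain ⟨hr, hT⟩ := hφV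
    choose r hr' using κsurj
    choose r' hr'' using γsurj
    let a' : I → ℚ := fun i => φ (r i)
    have haφ : ∀ x, φ x = a' (κ x) := by
      intro x
      obtain ⟨h, hh, k, hk, e⟩ := κs x (r (κ x)) (hr' _).symm
      show _ = φ (r (κ x))
      rw [e, hr _ k hk, hl h hh]
    let s' : J → ℚ := fun j => (Fintype.card C : ℚ)⁻¹ * ∑ c : C, a' (κ (r' j * c))
    have hs' : ∀ j, (∑ i, (p i j : ℚ)) * s' j = ∑ i, (p i j : ℚ) * a' i := by
      intro j
      have h1 := stepC a' (r' j)
      rw [hr''] at h1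
      show (∑ i, (p i j : ℚ)) * ((Fintype.card C : ℚ)⁻¹ * ∑ c : C, a' (κ (r' j * c))) = _
      field_simp
      linear_combination h1
    have hsC : ∀ y, ∑ c : C, a' (κ (y * c)) = Fintype.card C * s' (γ y) := by
      intro y
      have h2 := stepC a' y
      rw [← hs'] at h2
      exact mul_left_cancel₀ (nzγ (γ y)) (by linear_combination h2)
    have ht' : ∀ i, (∑ j, (p i j : ℚ)) * (t * a' i) = ∑ j, (p i j : ℚ) * s' j := by
      intro i
      have h1 := hT (r i)
      have h2 : ∑ k : K, ∑ c : C, φ (r i * k * c) = ∑ k : K, ∑ c : C, a' (κ (r i * k * c)) :=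
        Finset.sum_congr rfl fun k _ => Finset.sum_congr rfl fun c _ => haφ _
      have h5 : ∑ k : K, ∑ c : C, a' (κ (r i * k * c)) = ∑ k : K, (Fintype.card C : ℚ) * s' (γ (r i * k)) :=
        Finset.sum_congr rfl fun k _ => hsC (r i * k)
      rw [h2, h5, ← Finset.mul_sum, haφ, hr'] at h1
      have h3 := stepK s' (r i)
      rw [hr'] at h3
      have h4 : (Fintype.card K * Fintype.card C : ℚ) * ((∑ j, (p i j : ℚ)) * (t * a' i)) =
          (Fintype.card K * Fintype.card C : ℚ) * ∑ j, (p i j : ℚ) * s' j := by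
        linear_combination (-(∑ j, (p i j : ℚ))) * h1 + (Fintype.card C : ℚ) * h3
      exact mul_left_cancel₀ (mul_ne_zero hK0 hC0) h4
    refine ⟨a' (κ 1), funext fun x => ?_⟩
    show φ x = a' (κ 1) * a (κ x)
    rw [haφ, huniq a' s' hs' ht']
  · have h1 : ∀ f : I → ℚ, ∑ y : G, f (κ y) = N * ∑ i, ∑ j, (p i j : ℚ) * f i := by
      intro f
      rw [← Finset.sum_fiberwise_of_maps_to (s := Finset.univ) (t := Finset.univ) (g := κ)
        (fun _ _ => Finset.mem_univ _), Finset.mul_sum]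
      refine Finset.sum_congr rfl fun i _ => ?_
      have h2 : ∀ y ∈ Finset.univ.filter (fun y => κ y = i), f (κ y) = f i := by
        intro y hy
        rw [(Finset.mem_filter.1 hy).2]
      rw [Finset.sum_congr rfl h2, Finset.sum_const, nsmul_eq_mul, cardκ, ← Finset.sum_mul, mul_assoc]
    have h3 := h1 fun _ => 1
    simp only [mul_one, Finset.sum_const, nsmul_eq_mul, Finset.card_univ] at h3
    rw [h3, h1 fun i => a i ^ 2, ← hsumd]
    ring

end Main

end Cfsg.Agent.H859.Two
end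

-- part: H859/Two/Th
section
/-!
# The Thompson group: irreducible characters of degrees 61256 and 30875 (S4897)
-/

set_option autoImplicit false
set_option maxRecDepth 100000

namespace Cfsg.Agent.H859.Two

section

open Cfsg Cfsg.Agent.H707.Odd Cfsg.Agent.H707.RowTh Cfsg.Agent.H707
open Cfsg.Agent.Th.Base (RelK RelC)
open Cfsg.Agent.Th.Word Cfsg.Agent.Th.KOracle Cfsg.Agent.Th.COracleDef
open Cfsg.Agent.Th.FactData Cfsg.Agent.Th.FlagData Cfsg.Agent.Th.FlagCover
open Cfsg.Agent.Th.IndexBound Cfsg.Agent.Th.IndexUpper Cfsg.Agent.Th.OrbitSum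
open Cfsg.Agent.Th.PathCover (unl)

universe u

variable {G : Type u} [Group G] {γ g : ℕ → G} (h : Cx γ g) (hind : (sub γ isK).index = 143127000)

include h hind

/-- an irreducible character of known degree from a simple eigenvalue of the collapsed matrix -/
theorem deg_th [Finite G] (a : Fin 11 → ℚ) (s : Fin 13 → ℚ) (t : ℚ)
    (hs : ∀ j, (∑ i, (RowThData.P i j : ℚ)) * s j = ∑ i, (RowThData.P i j : ℚ) * a i)
    (ht : ∀ i, (∑ j, (RowThData.P i j : ℚ)) * (t * a i) = ∑ j, (RowThData.P i j : ℚ) * s j)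
    (huniq : ∀ (a' : Fin 11 → ℚ) (s' : Fin 13 → ℚ),
      (∀ j, (∑ i, (RowThData.P i j : ℚ)) * s' j = ∑ i, (RowThData.P i j : ℚ) * a' i) →
      (∀ i, (∑ j, (RowThData.P i j : ℚ)) * (t * a' i) = ∑ j, (RowThData.P i j : ℚ) * s' j) →
      ∀ i, a' i = a' 0 * a i)
    (ha1 : a 0 = 1) (d : ℕ)
    (hsum : (d : ℚ) * ∑ i, ∑ j, (RowThData.P i j : ℚ) * a i ^ 2 = ∑ i, ∑ j, (RowThData.P i j : ℚ)) :
    d ∈ charDegrees G := by
  classical
  have hcovK : ∀ x : G, ∃ i : Fin 11, pt (sub γ isK) x ∈ orb (sub γ isK) γ (g i) := by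
    intro x
    obtain ⟨ij, hij⟩ := coverP h hind (pt (sub γ isK) x)
    exact ⟨ij.1, piece_orb ij hij⟩
  have hcovC : ∀ x : G, ∃ j : Fin 13, pt (sub γ isK) x ∈ orbC γ g (j + 11) := by
    intro x
    obtain ⟨-, h2, -, -⟩ := Cfsg.Agent.Th.CentTh.hyps h hind
    exact h2 _
  choose κ hκ using hcovK
  choose c hc using hcovC
  have κiff : ∀ x (i : Fin 11), κ x = i ↔ ∃ k ∈ sub γ isK, ∃ k' ∈ sub γ isK, x = k * g i * k' := by
    intro x i
    constructor
    · rintro rfl
      obtain ⟨k, hk, hx⟩ := hκ x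
      rw [pt_eq_iff] at hx
      refine ⟨x * (g (κ x) * k)⁻¹, hx, k, hk, ?_⟩
      group
    · rintro ⟨k, hk, k', hk', rfl⟩
      refine (exK h hind).2 _ _ _ (hκ _) ⟨k', hk', ?_⟩
      rw [pt_eq_iff]
      show k * g i * k' * (g i * k')⁻¹ ∈ _
      have e : k * g i * k' * (g i * k')⁻¹ = k := by group
      rw [e]
      exact hk
  have ciff : ∀ x (j : Fin 13), c x = j ↔ ∃ k ∈ sub γ isK, ∃ k' ∈ sub γ isC, x = k * g (j + 11) * k' := by
    intro x j
    constructor
    · rintro rfl
      obtain ⟨k, hk, hx⟩ := hc x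
      rw [pt_eq_iff] at hx
      refine ⟨x * (g (c x + 11) * k)⁻¹, hx, k, hk, ?_⟩
      group
    · rintro ⟨k, hk, k', hk', rfl⟩
      refine (exC h hind).2 _ _ _ (hc _) ⟨k', hk', ?_⟩
      rw [pt_eq_iff]
      show k * g (j + 11) * k' * (g (j + 11) * k')⁻¹ ∈ _
      have e : k * g (j + 11) * k' * (g (j + 11) * k')⁻¹ = k := by group
      rw [e]
      exact hk
  have κ1 : κ 1 = 0 := (κiff 1 0).2 ⟨1, Subgroup.one_mem _, 1, Subgroup.one_mem _, by
    show (1 : G) = 1 * g 0 * 1
    rw [h.N.g0, one_mul, one_mul]⟩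
  refine deg_of_collapse (sub γ isK) (sub γ isC) κ c ?_ ?_ ?_ ?_ ?_ ?_ RowThData.P
    (Nat.card (sub γ isK)) Nat.card_pos.ne' ?_ RowThData.hi RowThData.hj a s t
    hs ht ?_ ?_ d hsum
  · intro k hk x
    obtain ⟨a, ha, b, hb, e⟩ := (κiff x _).1 rfl
    refine (κiff _ _).2 ⟨k * a, Subgroup.mul_mem _ hk ha, b, hb, ?_⟩
    rw [mul_assoc k, mul_assoc k, ← e]
  · intro x k hk
    obtain ⟨a, ha, b, hb, e⟩ := (κiff x _).1 rfl
    refine (κiff _ _).2 ⟨a, ha, b * k, Subgroup.mul_mem _ hb hk, ?_⟩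
    rw [← mul_assoc, ← e]
  · intro x y hxy
    obtain ⟨a, ha, b, hb, e⟩ := (κiff x _).1 rfl
    obtain ⟨a', ha', b', hb', e'⟩ := (κiff y _).1 hxy.symm
    refine ⟨a' * a⁻¹, Subgroup.mul_mem _ ha' (Subgroup.inv_mem _ ha), b⁻¹ * b',
      Subgroup.mul_mem _ (Subgroup.inv_mem _ hb) hb', ?_⟩
    conv_lhs => rw [e']
    conv_rhs => rw [e]
    group
  · intro k hk x
    obtain ⟨a, ha, b, hb, e⟩ := (ciff x _).1 rfl
    refine (ciff _ _).2 ⟨k * a, Subgroup.mul_mem _ hk ha, b, hb, ?_⟩
    rw [mul_assoc k, mul_assoc k, ← e]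
  · intro x k hk
    obtain ⟨a, ha, b, hb, e⟩ := (ciff x _).1 rfl
    refine (ciff _ _).2 ⟨a, ha, b * k, Subgroup.mul_mem _ hb hk, ?_⟩
    rw [← mul_assoc, ← e]
  · intro x y hxy
    obtain ⟨a, ha, b, hb, e⟩ := (ciff x _).1 rfl
    obtain ⟨a', ha', b', hb', e'⟩ := (ciff y _).1 hxy.symm
    refine ⟨a' * a⁻¹, Subgroup.mul_mem _ ha' (Subgroup.inv_mem _ ha), b⁻¹ * b',
      Subgroup.mul_mem _ (Subgroup.inv_mem _ hb) hb', ?_⟩
    conv_lhs => rw [e']
    conv_rhs => rw [e]
    group
  · intro i j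
    rw [← (exP h hind).1 (i, j), ← card_pt]
    refine Nat.card_congr (Equiv.subtypeEquivRight fun x => ?_)
    rw [← inter h hind]
    constructor
    · rintro ⟨rfl, rfl⟩
      exact ⟨hκ x, hc x⟩
    · rintro ⟨h1, h2⟩
      exact ⟨(exK h hind).2 _ _ _ (hκ x) h1, (exC h hind).2 _ _ _ (hc x) h2⟩
  · intro a' s' h1 h2 i
    rw [κ1]
    exact huniq a' s' h1 h2 i
  · rw [κ1]
    exact ha1

end

open Cfsg Cfsg.Agent.H504.TwoZ Cfsg.Agent.H504.Zeros Cfsg.Agent.H713 Cfsg.Agent.H713.Count

theorem sum_Th : (61256 : ℚ) * ∑ i, ∑ j, (H707.RowThData.P i j : ℚ) * H707.RowThData.a i ^ 2 =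
    ∑ i, ∑ j, (H707.RowThData.P i j : ℚ) := by decide +kernel

theorem mem_Th : 61256 ∈ charDegrees Spor.Th ∧ 30875 ∈ charDegrees Spor.Th := by
  obtain ⟨g, hcx⟩ := Cfsg.Agent.Th.Main475.exists_cx
  obtain ⟨h0, -, -, h2⟩ := Cfsg.Agent.Th.Main1700.final
  exact ⟨deg_th hcx h2 H707.RowThData.a H707.RowThData.s (1 / 13) H707.RowThData.hs H707.RowThData.ht
    H707.RowThData.huniq (by decide +kernel) 61256 sum_Th,
    deg_th hcx h2 H707.Odd.ThData.a H707.Odd.ThData.s (3 / 65) H707.Odd.ThData.hs H707.Odd.ThData.ht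
    H707.Odd.ThData.huniq (by decide +kernel) 30875 H707.Odd.ThData.hsum⟩

theorem fact_of {p n d k : ℕ} (hp : p.Prime) (hn : n ≠ 0) (hd : d ≠ 0) (h1 : p ^ k ∣ n) (h2 : ¬ p ^ (k + 1) ∣ n)
    (h3 : p ^ k ∣ d) (h4 : ¬ p ^ (k + 1) ∣ d) : d.factorization p = n.factorization p := by
  have key : ∀ m : ℕ, m ≠ 0 → p ^ k ∣ m → ¬ p ^ (k + 1) ∣ m → m.factorization p = k := by
    intro m hm h5 h6
    rw [hp.pow_dvd_iff_le_factorization hm] at h5 h6
    omega
  rw [key n hn h1 h2, key d hd h3 h4]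

theorem two_Th : Two Spor.Th := by
  have hcard : Nat.card Spor.Th = 90745943887872000 := H723.Spor.Th.card_th
  have hfin : Finite Spor.Th := Nat.finite_of_card_ne_zero (by rw [hcard]; norm_num)
  refine two_of_ZS mem_Th.1 mem_Th.2 (by norm_num) ?_ ?_
  · refine ZS.of_primes (a := 13) (b := 19) (c := 31) (by norm_num) (by norm_num) (by norm_num) (by norm_num)
      (by norm_num) (by norm_num) (by rw [hcard]; norm_num) (by rw [hcard]; norm_num)
      (by rw [hcard]; norm_num) ?_ ?_ ?_ <;> rw [hcard]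
    · exact fact_of (k := 1) (by norm_num) (by norm_num) (by norm_num) (by norm_num) (by norm_num) (by norm_num)
        (by norm_num)
    · exact fact_of (k := 1) (by norm_num) (by norm_num) (by norm_num) (by norm_num) (by norm_num) (by norm_num)
        (by norm_num)
    · exact fact_of (k := 1) (by norm_num) (by norm_num) (by norm_num) (by norm_num) (by norm_num) (by norm_num)
        (by norm_num)
  · refine ZS.of_primes (a := 13) (b := 19) (c := 5) (by norm_num) (by norm_num) (by norm_num) (by norm_num)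
      (by norm_num) (by norm_num) (by rw [hcard]; norm_num) (by rw [hcard]; norm_num)
      (by rw [hcard]; norm_num) ?_ ?_ ?_ <;> rw [hcard]
    · exact fact_of (k := 1) (by norm_num) (by norm_num) (by norm_num) (by norm_num) (by norm_num) (by norm_num)
        (by norm_num)
    · exact fact_of (k := 1) (by norm_num) (by norm_num) (by norm_num) (by norm_num) (by norm_num) (by norm_num)
        (by norm_num)
    · exact fact_of (k := 3) (by norm_num) (by norm_num) (by norm_num) (by norm_num) (by norm_num) (by norm_num)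
        (by norm_num)

/-- **the Thompson group** -/
theorem th {S : Type} [Group S] (h : Cfsg.Spor.IsoTh S) : RowT S := by
  have hcard : Nat.card Spor.Th = 90745943887872000 := H723.Spor.Th.card_th
  have hfin : Finite Spor.Th := Nat.finite_of_card_ne_zero (by rw [hcard]; norm_num)
  obtain ⟨e⟩ := h
  exact rowT_of e (H419.Row.inner_of_out S2083.result) two_Th

end Cfsg.Agent.H859.Two
end
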